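import Cfsg.Agent.Lib.F2MatGroup
import Cfsg.Agent.Lib.SimpleByPrime
import Cfsg.Agent.J4.Rep112
set_option linter.all false

-- part: Lib/F2Center
section
/-!
# Trivial centre from a faithful representation over the field with two elements

`center_eq_bot`: `ρ : G →* GL n 2` injective, packed matrices of some elements; a row vector `v` which is the only
non-zero common fixed vector of some of them (linear certificate) and whose translates span the whole space
(certificate: spanning translates and the inverse matrix).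
-/

set_option autoImplicit false

namespace Cfsg.Agent.Lib.F2Center

open Cfsg.Agent.Lib.F2Mat Cfsg.Agent.Lib.F2MatGroup

variable {n : ℕ}

theorem toMat_xor (n A B : ℕ) : toMat n (Nat.xor A B) = toMat n A + toMat n B := by
  ext i j
  rw [Matrix.add_apply, toMat_apply, toMat_apply, toMat_apply, ← bz_xor]
  congr 1
  exact Nat.testBit_xor A B _

/-- A product with the matrix whose only non-zero row is the first row `v`. -/
theorem vecMul_toMat_of_lt {v : ℕ} (hv : v < 2 ^ n) (w : Fin n → ZMod 2) :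
    Matrix.vecMul w (toMat n v) = 0 ∨ Matrix.vecMul w (toMat n v) = toVec n v := by
  rcases Nat.eq_zero_or_pos n with rfl | hn
  · left; ext j; exact j.elim0
  have key : ∀ j : Fin n, Matrix.vecMul w (toMat n v) j = w ⟨0, hn⟩ * toVec n v j := by
    intro j
    show ∑ k, w k * toMat n v k j = _
    rw [Finset.sum_eq_single (⟨0, hn⟩ : Fin n)]
    · rw [toMat_apply, toVec_apply]
      simp
    · intro k _ hk
      rw [toMat_apply]
      have h1 : v.testBit (n * k + j) = false := by
        apply Nat.testBit_lt_two_pow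
        refine lt_of_lt_of_le hv (Nat.pow_le_pow_right (by norm_num) ?_)
        have : 1 ≤ (k : ℕ) := by
          rcases Nat.eq_zero_or_pos (k : ℕ) with h | h
          · exact absurd (Fin.ext h) hk
          · exact h
        calc n = n * 1 := (mul_one n).symm
          _ ≤ n * k := Nat.mul_le_mul_left _ this
          _ ≤ n * k + j := Nat.le_add_right _ _
      rw [h1, bz_false, mul_zero]
    · intro h; exact absurd (Finset.mem_univ _) h
  have h01 : ∀ a : ZMod 2, a = 0 ∨ a = 1 := by decide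
  rcases h01 (w ⟨0, hn⟩) with h | h
  · left; ext j; rw [key, h, zero_mul]; rfl
  · right; ext j; rw [key, h, one_mul]

/-- `∑ (A * B + B)` over a list of pairs of packed matrices. -/
def fixSum (n : ℕ) (ps : List (ℕ × ℕ)) : ℕ :=
  List.rec 0 (fun p _ ih => Nat.xor (Nat.xor (F2Mat.mul n p.1 p.2) p.2) ih) ps

theorem vecMul_fixSum (ps : List (ℕ × ℕ)) (u : Fin n → ZMod 2)
    (h : ∀ p ∈ ps, Matrix.vecMul u (toMat n p.1) = u) :
    Matrix.vecMul u (toMat n (fixSum n ps)) = 0 := by
  induction ps with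
  | nil =>
    show Matrix.vecMul u (toMat n 0) = 0
    have : toMat n 0 = 0 := by
      ext i j; rw [toMat_apply, Nat.zero_testBit]; rfl
    rw [this, Matrix.vecMul_zero]
  | cons p ps ih =>
    have e : fixSum n (p :: ps) = Nat.xor (Nat.xor (F2Mat.mul n p.1 p.2) p.2) (fixSum n ps) := rfl
    rw [e, toMat_xor, toMat_xor, toMat_mul, Matrix.vecMul_add, Matrix.vecMul_add, ← Matrix.vecMul_vecMul,
      h p (by simp), ih (fun q hq => h q (List.mem_cons_of_mem _ hq)), add_zero]
    ext j
    show Matrix.vecMul u (toMat n p.2) j + Matrix.vecMul u (toMat n p.2) j = 0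
    exact CharTwo.add_self_eq_zero _

/-- certificate check for the fixed space: `∑ (A_k B_k + B_k) = 1 + F v`. -/
def fixCheck (n v F : ℕ) (ps : List (ℕ × ℕ)) : Bool :=
  cond (Nat.blt v (Nat.pow 2 n))
    (Nat.beq (fixSum n ps) (Nat.xor (F2Mat.one n) (F2Mat.mul n F v))) false

theorem fixCheck_sound {v F : ℕ} {ps : List (ℕ × ℕ)} (hc : fixCheck n v F ps = true)
    (u : Fin n → ZMod 2) (h : ∀ p ∈ ps, Matrix.vecMul u (toMat n p.1) = u) :
    u = 0 ∨ u = toVec n v := by
  have h1 : v < 2 ^ n ∧ fixSum n ps = Nat.xor (F2Mat.one n) (F2Mat.mul n F v) := by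
    unfold fixCheck at hc
    rcases hb : Nat.blt v (Nat.pow 2 n) with _ | _
    · rw [hb] at hc; exact absurd hc Bool.false_ne_true
    · rw [hb] at hc
      exact ⟨Nat.lt_of_lt_of_eq (Nat.blt_eq ▸ hb) rfl, Nat.eq_of_beq_eq_true hc⟩
  have h2 := vecMul_fixSum ps u h
  rw [h1.2, toMat_xor, toMat_mul, toMat_one, Matrix.vecMul_add, Matrix.vecMul_one,
    ← Matrix.vecMul_vecMul] at h2
  have h3 : u = Matrix.vecMul (Matrix.vecMul u (toMat n F)) (toMat n v) := by
    have h4 := eq_neg_of_add_eq_zero_left h2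
    refine h4.trans ?_
    ext j
    exact CharTwo.neg_eq (R := ZMod 2) _
  rcases vecMul_toMat_of_lt h1.1 (Matrix.vecMul u (toMat n F)) with h | h
  · left; rw [h3, h]
  · right; rw [h3, h]

/-! ### Spinning a vector -/

/-- Extend a list of vectors (newest first) by products `vector number i * matrix number j`. -/
def spin (n : ℕ) (L : List ℕ) (st : List (ℕ × ℕ)) : List ℕ → List ℕ :=
  List.rec (motive := fun _ => List ℕ → List ℕ) (fun vs => vs)
    (fun p _ ih vs => ih (vmul n (get 0 vs p.1) (get 0 L p.2) :: vs)) st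

/-- Continuation form with forced vectors. -/
def spinK (n : ℕ) (L : List ℕ) (st : List (ℕ × ℕ)) (vs : List ℕ) (k : List ℕ → Bool) : Bool :=
  List.rec (motive := fun _ => List ℕ → Bool) k
    (fun p _ ih vs => force (vmul n (get 0 vs p.1) (get 0 L p.2)) fun v => ih (v :: vs)) st vs

theorem spinK_eq (n : ℕ) (L : List ℕ) (st : List (ℕ × ℕ)) (vs : List ℕ) (k : List ℕ → Bool) :
    spinK n L st vs k = k (spin n L st vs) := by
  induction st generalizing vs with
  | nil => rfl
  | cons p st ih =>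
    have e1 : spinK n L (p :: st) vs k =
        force (vmul n (get 0 vs p.1) (get 0 L p.2)) (fun v => spinK n L st (v :: vs) k) := rfl
    have e2 : spin n L (p :: st) vs = spin n L st (vmul n (get 0 vs p.1) (get 0 L p.2) :: vs) := rfl
    rw [e1, e2, force_eq, ih]

/-- pack a list of rows: first row in the lowest bits. -/
def pack (n : ℕ) (vs : List ℕ) : ℕ :=
  List.rec 0 (fun v _ ih => Nat.lor v (Nat.shiftLeft ih n)) vs

theorem pack_cons (n v : ℕ) (vs : List ℕ) : pack n (v :: vs) = v ||| (pack n vs <<< n) := rfl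

theorem testBit_pack {vs : List ℕ} (h : ∀ v ∈ vs, v < 2 ^ n) (i j : ℕ) (hj : j < n) :
    (pack n vs).testBit (n * i + j) = (vs.getD i 0).testBit j := by
  induction vs generalizing i with
  | nil => simp [pack]
  | cons v vs ih =>
    rw [pack_cons, Nat.testBit_or, Nat.testBit_shiftLeft]
    rcases i with _ | i
    · simp
      intro h; omega
    · have hv : v.testBit (n * (i + 1) + j) = false := by
        apply Nat.testBit_lt_two_pow
        refine lt_of_lt_of_le (h v (by simp)) (Nat.pow_le_pow_right (by norm_num) ?_)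
        rw [Nat.mul_succ]; omega
      have h2 : n * (i + 1) + j ≥ n := by rw [Nat.mul_succ]; omega
      have h3 : n * (i + 1) + j - n = n * i + j := by rw [Nat.mul_succ]; omega
      rw [hv, h3, Bool.false_or, ih (fun w hw => h w (by simp [hw]))]
      simp [h2]

/-- All vectors in the list are translates of `v0` under the group. -/
def Translates {G : Type*} [Group G] (ρ : G →* GL (Fin n) (ZMod 2)) (v0 : Fin n → ZMod 2) (v : ℕ) : Prop :=
  v < 2 ^ n ∧ ∃ h : G, toVec n v = Matrix.vecMul v0 ((ρ h : GL (Fin n) (ZMod 2)) : Matrix (Fin n) (Fin n) (ZMod 2))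

theorem get_zero_translates {G : Type*} [Group G] {ρ : G →* GL (Fin n) (ZMod 2)} {v0 : Fin n → ZMod 2}
    {vs : List ℕ} (h : ∀ v ∈ vs, Translates ρ v0 v) (i : ℕ) (hi : i < vs.length) :
    Translates ρ v0 (get 0 vs i) := by
  induction vs generalizing i with
  | nil => exact absurd hi (by simp)
  | cons v vs ih =>
    rcases i with _ | i
    · exact h v (by simp)
    · exact ih (fun w hw => h w (by simp [hw])) i (by simpa using hi)

/-- indices are in range -/
def stepsOk (m l : ℕ) (st : List (ℕ × ℕ)) : Bool :=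
  List.rec (motive := fun _ => ℕ → Bool) (fun _ => true)
    (fun p _ ih l => cond (Nat.blt p.1 l) (cond (Nat.blt p.2 m) (ih (Nat.succ l)) false) false) st l

theorem exists_codes {G : Type*} [Group G] {ρ : G →* GL (Fin n) (ZMod 2)}
    {gs : List G} {L : List ℕ} (hL : List.Forall₂ (fun g A => Codes n (ρ g) A) gs L)
    (b : ℕ) (hb : b < L.length) : ∃ g : G, Codes n (ρ g) (get 0 L b) := by
  induction hL generalizing b with
  | nil => exact absurd hb (by simp)
  | cons hgA _ ih2 =>
    rcases b with _ | b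
    · exact ⟨_, hgA⟩
    · exact ih2 b (by simpa using hb)

theorem spin_translates {G : Type*} [Group G] {ρ : G →* GL (Fin n) (ZMod 2)} {v0 : Fin n → ZMod 2}
    {gs : List G} {L : List ℕ} (hL : List.Forall₂ (fun g A => Codes n (ρ g) A) gs L)
    (st : List (ℕ × ℕ)) (vs : List ℕ) (h : ∀ v ∈ vs, Translates ρ v0 v)
    (hst : stepsOk L.length vs.length st = true) :
    ∀ v ∈ spin n L st vs, Translates ρ v0 v := by
  induction st generalizing vs with
  | nil => exact h
  | cons p st ih =>
    have e2 : spin n L (p :: st) vs = spin n L st (vmul n (get 0 vs p.1) (get 0 L p.2) :: vs) := rfl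
    have e3 : stepsOk L.length vs.length (p :: st) =
      cond (Nat.blt p.1 vs.length) (cond (Nat.blt p.2 L.length)
        (stepsOk L.length (Nat.succ vs.length) st) false) false := rfl
    rw [e3] at hst
    rcases hb : Nat.blt p.1 vs.length with _ | _
    · rw [hb] at hst; exact absurd hst Bool.false_ne_true
    rw [hb] at hst
    rcases hb2 : Nat.blt p.2 L.length with _ | _
    · rw [hb2] at hst; exact absurd hst Bool.false_ne_true
    rw [hb2] at hst
    have hp1 : p.1 < vs.length := by simpa using hb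
    have hp2 : p.2 < L.length := by simpa using hb2
    rw [e2]
    apply ih
    · intro v hv
      rcases List.mem_cons.mp hv with rfl | hv
      · refine ⟨vmul_lt _ _, ?_⟩
        obtain ⟨_, h1, hh1⟩ := get_zero_translates h p.1 hp1
        obtain ⟨g, hg⟩ : ∃ g : G, Codes n (ρ g) (get 0 L p.2) := exists_codes hL p.2 hp2
        refine ⟨h1 * g, ?_⟩
        rw [toVec_vmul, hh1, map_mul, Units.val_mul, ← Matrix.vecMul_vecMul]
        congr 1
        exact hg.symm
      · exact h v hv
    · exact hst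

/-- the complete check for spanning: the spun vectors, packed, times `T` is the identity. -/
def spanCheck (n v T : ℕ) (L : List ℕ) (st : List (ℕ × ℕ)) : Bool :=
  cond (Nat.blt v (Nat.pow 2 n)) (cond (stepsOk L.length 1 st) (cond (Nat.beq (Nat.succ st.length) n)
    (spinK n L st [v] fun vs => Nat.beq (F2Mat.mul n (pack n vs) T) (F2Mat.one n)) false) false) false

theorem spin_length (n : ℕ) (L : List ℕ) (st : List (ℕ × ℕ)) (vs : List ℕ) :
    (spin n L st vs).length = st.length + vs.length := by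
  induction st generalizing vs with
  | nil => simp [spin]
  | cons p st ih =>
    have e2 : spin n L (p :: st) vs = spin n L st (vmul n (get 0 vs p.1) (get 0 L p.2) :: vs) := rfl
    rw [e2, ih]; simp; omega

theorem spanCheck_sound {G : Type*} [Group G] {ρ : G →* GL (Fin n) (ZMod 2)}
    {gs : List G} {L : List ℕ} (hL : List.Forall₂ (fun g A => Codes n (ρ g) A) gs L)
    {v T : ℕ} {st : List (ℕ × ℕ)} (hc : spanCheck n v T L st = true)
    (M : Matrix (Fin n) (Fin n) (ZMod 2))
    (hM : ∀ h : G, Matrix.vecMul (Matrix.vecMul (toVec n v) (ρ h : GL (Fin n) (ZMod 2)).val) M =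
      Matrix.vecMul (toVec n v) (ρ h : GL (Fin n) (ZMod 2)).val) : M = 1 := by
  unfold spanCheck at hc
  rcases hb : Nat.blt v (Nat.pow 2 n) with _ | _
  · rw [hb] at hc; exact absurd hc Bool.false_ne_true
  rw [hb] at hc
  rcases hb2 : stepsOk L.length 1 st with _ | _
  · rw [hb2] at hc; exact absurd hc Bool.false_ne_true
  rw [hb2] at hc
  rcases hb3 : Nat.beq (Nat.succ st.length) n with _ | _
  · rw [hb3] at hc; exact absurd hc Bool.false_ne_true
  rw [hb3] at hc
  simp only [cond_true] at hc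
  rw [spinK_eq] at hc
  have hlen : st.length + 1 = n := Nat.eq_of_beq_eq_true hb3
  have hv : v < 2 ^ n := Nat.lt_of_lt_of_eq (Nat.blt_eq ▸ hb) rfl
  have htr : ∀ w ∈ spin n L st [v], Translates ρ (toVec n v) w := by
    apply spin_translates hL st [v]
    · intro w hw
      rw [List.mem_singleton] at hw
      subst hw
      refine ⟨hv, 1, ?_⟩
      rw [map_one, Units.val_one, Matrix.vecMul_one]
    · exact hb2
  set vs := spin n L st [v] with hvs
  have hlen2 : vs.length = n := by rw [hvs, spin_length]; simpa using hlen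
  have hST : toMat n (pack n vs) * toMat n T = 1 := by
    rw [← toMat_mul, Nat.eq_of_beq_eq_true hc, toMat_one]
  have hTS : toMat n T * toMat n (pack n vs) = 1 := mul_eq_one_comm.mp hST
  have hSM : toMat n (pack n vs) * M = toMat n (pack n vs) := by
    ext i j
    have hrow : (fun j => toMat n (pack n vs) i j) = toVec n (vs.getD i 0) := by
      ext j
      rw [toMat_apply, toVec_apply, testBit_pack (fun w hw => (htr w hw).1) i j j.2]
    have hi : (i : ℕ) < vs.length := by rw [hlen2]; exact i.2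
    have hmem : vs.getD i 0 ∈ vs := by
      rw [List.getD_eq_getElem _ _ hi]; exact List.getElem_mem hi
    obtain ⟨_, h, hh⟩ := htr _ hmem
    have := hM h
    rw [← hh, ← hrow] at this
    exact congrFun this j
  calc M = 1 * M := (one_mul M).symm
    _ = toMat n T * (toMat n (pack n vs) * M) := by rw [← mul_assoc, hTS]
    _ = 1 := by rw [hSM, hTS]

/-- **Trivial centre.** -/
theorem center_eq_bot {G : Type*} [Group G] (ρ : G →* GL (Fin n) (ZMod 2))
    (hinj : Function.Injective ρ)
    {gs : List G} {L : List ℕ} (hL : List.Forall₂ (fun g A => Codes n (ρ g) A) gs L)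
    {v F T : ℕ} {ps : List (ℕ × ℕ)} {st : List (ℕ × ℕ)}
    (hps : ∀ p ∈ ps, p.1 ∈ L)
    (hv0 : Nat.beq v 0 = false)
    (hfixv : ∀ p ∈ ps, Nat.beq (vmul n v p.1) v = true)
    (hfix : fixCheck n v F ps = true) (hspan : spanCheck n v T L st = true) :
    Subgroup.center G = ⊥ := by
  have hv : v < 2 ^ n := by
    unfold fixCheck at hfix
    rcases hb : Nat.blt v (Nat.pow 2 n) with _ | _
    · rw [hb] at hfix; exact absurd hfix Bool.false_ne_true
    · exact Nat.lt_of_lt_of_eq (Nat.blt_eq ▸ hb) rfl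
  have hcode : ∀ A ∈ L, ∃ g : G, Codes n (ρ g) A := by
    intro A hA
    clear hps hspan
    induction hL with
    | nil => simp at hA
    | cons h _ ih =>
      rcases List.mem_cons.mp hA with rfl | hA
      · exact ⟨_, h⟩
      · exact ih hA
  refine SimpleByPrime.center_eq_bot_of_common_fixed_vector (V := Fin n → ZMod 2) 0
    (fun u g => Matrix.vecMul u (ρ g).val) ?_ ?_
    {g | ∃ p ∈ ps, Codes n (ρ g) p.1} (toVec n v) ?_ ?_ ?_ ?_
  · intro u g h
    show Matrix.vecMul u (ρ (g * h)).val = Matrix.vecMul (Matrix.vecMul u (ρ g).val) (ρ h).val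
    rw [map_mul, Units.val_mul, Matrix.vecMul_vecMul]
  · intro u g hu
    have h1 : Matrix.vecMul (Matrix.vecMul u (ρ g).val) (ρ g)⁻¹.val = 0 := by
      have hu' : Matrix.vecMul u (ρ g).val = 0 := hu
      rw [hu', Matrix.zero_vecMul]
    rw [Matrix.vecMul_vecMul, ← Units.val_mul, mul_inv_cancel, Units.val_one, Matrix.vecMul_one] at h1
    exact h1
  · intro h0
    have h1 : toVec n v = toVec n 0 := by
      rw [h0]; ext j; rw [toVec_apply, Nat.zero_testBit]; rfl
    have h2 := toVec_inj hv (Nat.two_pow_pos n) h1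
    rw [h2] at hv0
    exact absurd hv0 (by decide)
  · rintro g ⟨p, hp, hg⟩
    show Matrix.vecMul (toVec n v) (ρ g).val = toVec n v
    have h1 := hfixv p hp
    have h2 : (ρ g).val = toMat n p.1 := hg
    rw [h2, ← toVec_vmul, Nat.eq_of_beq_eq_true h1]
  · intro u hu
    apply fixCheck_sound hfix u
    intro p hp
    obtain ⟨g, hg⟩ := hcode p.1 (hps p hp)
    have h1 := hu g ⟨p, hp, hg⟩
    have h2 : (ρ g).val = toMat n p.1 := hg
    rw [← h2]
    exact h1
  · intro z hz
    have h1 := spanCheck_sound hL hspan (ρ z).val hz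
    apply hinj
    rw [map_one]
    exact Units.ext h1

end Cfsg.Agent.Lib.F2Center
end

-- part: J4/Simple
section
/-!
# Simplicity of the presented group J4 from its order and the faithfulness of the 112-dimensional representation
-/

set_option autoImplicit false

namespace Cfsg.Agent.J4.Simple

open Cfsg.Agent.Lib.F2Mat Cfsg.Agent.Lib.F2MatGroup Cfsg.Agent.J4.Rep112

/-- certificate matrices: `(X + 1) B1 + (Y + 1) B2 = 1 + F v` -/
def B1 : ℕ := 0x108d84a98c5d1117e35db6f02d482f59886c33841702007df8740a86279b71c7fae6cffcd6af11860632dd0f15eb4eb988cd9ffd870c65e8ecb71e03446cfa33271d6fd47d6c0f1328b2031d1d26fcbb58cfaa32ddcfb5ab52888f1e2316685ffa30c2642d5a97ea3fe929809e00b6b48f67439cde311e1cbb56eeab6530a6ce0e098fc7f3d280e970656730ad2607dac9a0d9d8a8c792cea4b63e362e5a7156a68df2162b6f719806f3ae86a2a2ad0f01595591e57c0a2d86314c1469ec2681dba54cc66df4dff09c0287001a4a3aef9f202c9ed9dc81277ec16d8742a6b0785cae8639769985d2563b56923d1c6a0e037edb238ad13eb5771ce7bada172aa80309f0f47d9069a50f30b6ec56f1d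c8512c33de029944066384d0af169ff3da3825c0a78afdc9b23f35dae834fbb055837900708a938fde48576812c01860efbc30c70d23551de1c9581105ccde0a374f90b9e674ea8c0ec34224813a4beb0210048b4c54185def567fcf2d81518e495101d3f08f57b56ce247a1acc418949bd31834aa791632e7c1e903553b36a0b8623227316c51a9618c73597ff4b84e3fda73c4438ee7036f46cd66bc51d2c9d390ec0c343bfaf36107204feb2c0439ada14aaf68212442dc44fba3e9f249a055956354cd0f710f3b3b1b3ec02a7fc7b585148ffda16c7ea0e1072a67d5c41fe2bd5cac7d073807c9e5eddb5c017ef2bf45cf7346316c29abb235e576c371aa5abde03268c2f526486fda57d6123c306ab925ac21723f67eff45683546687ab6b4db31bebb3292ffeb5e1175455a02761e045562889bcd2a9db2e86472584ec3bf6027a9dd938f0de7e65a4dcf50381bc7f7933a670bd6d880786b8f6a031e9db3b6ef5dc70d64984ca4bbd6a7263490df76a224f8e1f930ea888dcfe0931e9c7bfe04a3206386ad9b4de14247da720bae894ff535e3e677fbb8147c847450b76f5405cce44af3e1035a434808b999fe6dc706d2a0848dd430719a746d01a61abc2500cb2e879ee66ee4a5bf575591aaa6f9ef2b9fa6aa80230000cbcba8320e16ca7ab98a51cbdb80924d64343e3f27d7e76a7198b54fbd4baee9412d3ae08432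
/-- second certificate matrix -/
def B2 : ℕ := 0x56f4912892ec6241da8bed9afd1c000000000000000000000000000000000000000000000000000000000000000000000000000000000000b2f84acf7532b8d5752ecd4b04e6b9610982579f4976a62ceaf837bc8f5bc776bf420282659c600c38182f13bbcf642cbd7f90e878cc0a3a0ffeaab63b9780a7b386dce713d6f4aa6f45468b08a2e69aabce6d44e1844d7179a27726420198f1462c7de44ff40dc66d7247d1b8b082f884dbf95aab44e0524e836333d5a6480b74b9ef31cf9a83f90d4418043a2e38e6c5f4d54444e876f85e8401154ba305080d41c2a560557844db24461fd79fff34ddc07bb17e82948ca59f4831200d1ca3ebc6d974a755245197448a274593cab26a121ee9c92f7b959d65803866999f40797473128468c1c1219b8ad6d3b88e7c7d46fcefb357781d14f4cc7a653d1563f90a9f76cd094845e428b3ff1ca0dc29379635731806583c5af88108650eeb2dddb21d0d473cd32910e0dc4abf144d1b33033a9ec98799fc13bddbf060f05831f1e8fb40b50be155e461a2809185da643a2d17e83cf237e53e9924958904faac7d1ebeaa8e5b89a4ee4cfbae784dd0ecc221b9095cf85e20fd7ca4ae0e3b9542daa9203958e9b70e3daa706c0f6cdfe240d7ba422266a9e5252d4a1563998a480e3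c1516b3b8914d054a4dac0686861fb6b810bd3e5f2cffe1fa8fdf08869d8ee3a366bf3609cdcd358178f0cfca8a317bc58a670f81eef3eba73ea2703d9ad226a1dcb4fb7d6fd981f8c739f6a719aa640313658c38271cb8cdf0377d9c39d0f00e83b37c4c4db842471edb863aa45b3fa7267a72c5eee102aecebabab607b621d644833f83877fbf35c785d421b66ab0aa395b0150b81552d2e272eeae5c24dcb5a5dde599db11cbf008f89689e62134356e57ea6491cc60caf3ebf180d2f7430e9ffecd9250e8be7429c8528c31aec421ef010e92bb38d0bdcaf962c9d8877a4bb91099e5ed730c4d83e5fb6130d462d86cb592ca85078ac5b0d0e4859362be34becb45747fb88c6fe4cbb6d62455efe963eda555b570490c46a2fb95e6c52747fb6a860980294eb0f178ab2b58d69bb41ed3baffa11c1b96ff8d70a4109da36ac64eb78e379f539726abef845f49e378f102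
/-- the all-ones vector, fixed by x and y -/
def v : ℕ := Nat.sub (Nat.pow 2 112) 1
/-- inverse of the matrix of spun vectors -/
def Tinv : ℕ := 0x4276cd14896ac6ca44d7fa6a8d609a00890218ee28599830e639fab1c6654cf7335627b5d6e5e2f16a10040ab157d9397a562a608e57ab13d073aa11e83e94cfcd0c4271ca89076b384f537682bbe58a41530209b749b98c5d44fcc42b6c452b7d59b9e29c499f8b84060a26e4d94f8ff41b7f0ebedbe7b496eeeb39698b6e2ef14e476628a37f6544c34b1b1efd33ab480220236bfc6fd39ae6bca5c93e28cb576ad3e8c648c63c450e1512dfb1b83864555e528a5695b0bfaac91ebb37401de97c0fc912a6e95a950ca67550e02103cc17423146a810b0e31f09c4166ddd66f84e84ef1a08e3f8e4dfe0d44720461e836c66d06249fda9455f83887476ea4a2dc085ce9d9dd1e1e850ab89956d1abd9bf7511b9156a83b6b4733cebe9b83e4790a367dea08fbef7f64fcc624db816cf97848ced59b27443df0ddec4abdf2ff049d3a094c07b5a9d260170075416e1638b0a5d1ea45df90f434060d7b3135131fb178fd7ee238ef8e01ded097bce5b85b911bfdca3db0cd508d142ca5c73ce91add9fc5f4e7fff0047aa0ef7371c8051e0318a858d009e6d05c0d959f74c82106e725c1c56258aa4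2fc12e3b489bcf3fb38862e66385f161dae88ed5982354c98b40df04cd2201c8e4148848e9a2cd6be203f87ac28ac4958c91a41201a8f568b942de1c8bb3057701e87bddc4bbb578ed921491b8313f36c183ff380988d480fbd8c7b1fc5cd6e6bdedd8004ec264f8fe7639b581a0be6f3e76b2662cac6879b03c768d3a59a98a071c598399d918b5ab72e2ef45c9275db2f700073328f8678f4cf4f6dcc89c30e6852e3df82a1e16fcb4a211fd84533424a6fc8ddee46bf4910160c4fcaf7cc21da382d0d3d2e15c4a200a8dbc2209e78d2f5901fc45e4c9590da8e0b4cf8b866f38155268a6fd28bed58fd59e17b7fba1b49595abbf53b746565b91b273d7876db5a57998591cd302f273f45f5223e699d4a7186970cad11da7ed4289c5220a9ae520402e9254c65fc9166923923463600fc45597c5c01d3b0d115d2a435e7e8b012ceaf44de4eaf654cdd35e3d48d9775b5f4e4ff8b77df7f5a1ebc230f07620f83bb210d59cf030d2ab1cad66d9caedce7a383317688f0c9dacb08185b322998c9b9cf125c4b55e67da331c30c973455ab438c8d55a8f676ca6ad2e9cc8b09db2fdb6d169a90736786fc373764be052a9edb6bd5cd6ea7120cff0db9a6be894c0a5672a2a4664b0d8ee8be18853255d56281e276b0a5c0fc4979590ddc7e929403869e7d93998a1d5979ce492e163e39bb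a4b1ef513e31d77c71fcbb672fba6657f6a05b0a481d31f2c2520462063bdb2be4968a9945a58d384da829a2801d9060206ce9f0b2c9baa186ad7f18de539e39ab5bee8c5646a3230a0fe9dd51aaf0a64fb3100c50cdede4ef58b242f76ca912b9119b06ae28a1164b6ef81c7fabe7ba1773bedc655d49959e691775364139a67335e87dc38f996512aa96d61b5f419751b682e5da639acd3328577ea7b6a3c3980203364c08bde8df82544f2a18c036f15978f8d452fbdfefc3630b01a4971609e7c8b079f77be2104cb070eeb810e1df1d0f06108cf81b39b03aba357cf1f45487badaffff7f022e94a262eec1692c29074d8d1e8bc920e4526cba2ac164857db34027151b7cb270a7a5538f5d6a2f5582115919d1331d83526b3b55ae040019aef73e9755ba16063f0297e55b45a512b305f273db69a4b72fd338190a458f0497aab61440fe3622d78139a7c512776784c04e47baf758a533a125ec093ea58ad86838964be0fae01e622d31361ce6be2b87171937c831a8260cf632310991b877cd8da1a52efcb0aeb2f36662f47f60bbd29515f90748b4cdadd9d3ea74bb613c26688a080df9db65cad8466ec619adf4904ac3579a2b4a521148779183e905fb7ac49e7772e6f873f5eb853bc13f072f42a643941c03b2e619e53a02a3a299859424f0adb83c08a4c136a204a4d8f913adc5bb273d22da4c03623d822c832de357a580b6155ff446d7bbc4897ac72e0323ae0f7844619dd5e969b72c5fabb6d0a9ac582eea5cfdedd6691af71c5241d6561e52bf0c051f061aea2ff71eaba3d8f40d8241a5e6f11c8f52e3eac367c6d46b2a225d0bb618aa8e1e2b18bf121248fc348e23011a44e45cf409687721c195561f0af784a3ee86a0946fdef04afee00297e8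
/-- spinning steps -/
def st : List (ℕ × ℕ) := [(0, 3), (0, 1), (0, 0), (1, 1), (2, 3), (2, 1), (3, 3), (3, 0), (4, 3), (4, 1), (4, 0), (5, 1), (6, 3), (6, 1), (6, 1), (7, 3), (7, 1), (7, 0), (8, 1), (9, 3), (9, 1), (10, 3), (10, 0), (11, 3), (11, 1), (11, 0), (12, 1), (13, 3), (13, 0), (14, 1), (15, 3), (15, 1), (15, 1), (15, 1), (16, 3), (16, 0), (16, 1), (16, 0), (17, 1), (18, 3), (18, 1), (18, 1), (19, 3), (19, 1), (19, 0), (20, 1), (21, 3), (21, 1), (22, 3), (22, 0), (22, 1), (22, 1), (22, 0), (23, 3), (23, 1), (23, 1), (23, 0), (24, 3), (24, 0), (25, 1), (26, 3), (26, 1), (25, 0), (26, 1), (27, 3), (27, 1), (28, 3), (28, 0), (29, 3), (29, 1), (29, 0), (30, 1), (31, 3), (31, 0), (32, 1), (32, 1), (32, 1), (32, 1), (33, 3), (33, 0), (34, 3), (34, 1), (34, 0), (35, 1), (36, 3), (36, 1), (36, 1), (36, 0), (37, 1), (38, 3), (38, 0), (39, 3), (39, 1), (40, 3), (40, 1), (40, 1), (41, 3), (41, 0), (42, 3), (42, 1), (43, 3), (43, 1), (43, 1), (44, 3), (44, 0), (45, 3), (45, 1), (45, 0),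 (46, 1), (46, 1), (47, 3)]

theorem center_eq_bot (hinj : Function.Injective rho) : Subgroup.center Cfsg.Spor.J4 = ⊥ := by
  refine Cfsg.Agent.Lib.F2Center.center_eq_bot (n := 112) rho hinj (gs := gens) (L := codes) ?_
    (v := v) (F := 1) (T := Tinv) (ps := [(RepData.X, B1), (RepData.Y, B2)]) (st := st) ?_ ?_ ?_ ?_ ?_
  · exact List.forall₂_map_left_iff.mp codes_gens
  · intro p hp
    simp only [List.mem_cons, List.not_mem_nil, or_false] at hp
    rcases hp with rfl | rfl
    · simp [codes]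
    · simp [codes]
  · decide +kernel
  · decide +kernel
  · decide +kernel
  · decide +kernel

theorem ne_one_of_codes {n : ℕ} {g : GL (Fin n) (ZMod 2)} {A : ℕ} (hg : Codes n g A)
    (h1 : Nat.blt A (Nat.pow 2 (Nat.mul n n)) = true)
    (h : Nat.beq A (one n) = false) : g ≠ 1 := by
  rintro rfl
  have h2 : toMat n A = toMat n (one n) := by rw [toMat_one]; exact hg.symm
  have h3 : A < 2 ^ (n * n) := Nat.lt_of_lt_of_eq (Nat.blt_eq ▸ h1) rfl
  have h4 := toMat_inj h3 one_lt' h2
  rw [h4, Nat.beq_refl] at h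
  exact absurd h (by decide)

theorem orderOf_of {g : Cfsg.Spor.J4} (hinj : Function.Injective rho)
    (h1 : (rho g) ^ 37 = 1) (h2 : rho g ≠ 1) : orderOf g = 37 := by
  have : Fact (Nat.Prime 37) := ⟨by norm_num⟩
  apply orderOf_eq_prime
  · apply hinj; rw [map_pow, h1, map_one]
  · rintro rfl; exact h2 (map_one rho)

/-- for a word w: `w ^ 37 = 1` and `w ≠ 1` -/
macro "ord37" : tactic => `(tactic| first
  | (apply Codes.eq_one (n := 112)
     · codes_tac
     · decide +kernel)
  | (refine ne_one_of_codes (n := 112) (by codes_tac) ?_ ?_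
     · decide +kernel
     · decide +kernel))

theorem pya : (xg * tg * yg) ^ 37 = 1 := by ord37
theorem nya : xg * tg * yg ≠ 1 := by ord37
theorem pyb : (xg * tg * yg * yg) ^ 37 = 1 := by ord37
theorem nyb : xg * tg * yg * yg ≠ 1 := by ord37
theorem pta : (tg * yg * xg * yg * tg * yg⁻¹) ^ 37 = 1 := by ord37
theorem nta : tg * yg * xg * yg * tg * yg⁻¹ ≠ 1 := by ord37
theorem ptb : (tg * yg * xg * yg * tg * yg⁻¹ * tg) ^ 37 = 1 := by ord37
theorem ntb : tg * yg * xg * yg * tg * yg⁻¹ * tg ≠ 1 := by ord37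
theorem pxa : (tg * yg⁻¹ * xg * yg⁻¹ * tg * yg) ^ 37 = 1 := by ord37
theorem nxa : tg * yg⁻¹ * xg * yg⁻¹ * tg * yg ≠ 1 := by ord37
theorem pxb : (tg * yg⁻¹ * xg * yg⁻¹ * tg * yg * xg) ^ 37 = 1 := by ord37
theorem nxb : tg * yg⁻¹ * xg * yg⁻¹ * tg * yg * xg ≠ 1 := by ord37

theorem word_y (hinj : Function.Injective rho) :
    ∃ w : Cfsg.Spor.J4, orderOf w = 37 ∧ orderOf (w * y) = 37 := by
  refine ⟨x * t * y, ?_, ?_⟩
  · apply orderOf_of hinj
    · simp only [map_mul, rho_x, rho_y, rho_t]; exact pya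
    · simp only [map_mul, rho_x, rho_y, rho_t]; exact nya
  · apply orderOf_of hinj
    · simp only [map_mul, rho_x, rho_y, rho_t]; exact pyb
    · simp only [map_mul, rho_x, rho_y, rho_t]; exact nyb

theorem word_t (hinj : Function.Injective rho) :
    ∃ w : Cfsg.Spor.J4, orderOf w = 37 ∧ orderOf (w * t) = 37 := by
  refine ⟨t * y * x * y * t * y⁻¹, ?_, ?_⟩
  · apply orderOf_of hinj
    · simp only [map_mul, map_inv, rho_x, rho_y, rho_t]; exact pta
    · simp only [map_mul, map_inv, rho_x, rho_y, rho_t]; exact nta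
  · apply orderOf_of hinj
    · simp only [map_mul, map_inv, rho_x, rho_y, rho_t]; exact ptb
    · simp only [map_mul, map_inv, rho_x, rho_y, rho_t]; exact ntb

theorem word_x (hinj : Function.Injective rho) :
    ∃ w : Cfsg.Spor.J4, orderOf w = 37 ∧ orderOf (w * x) = 37 := by
  refine ⟨t * y⁻¹ * x * y⁻¹ * t * y, ?_, ?_⟩
  · apply orderOf_of hinj
    · simp only [map_mul, map_inv, rho_x, rho_y, rho_t]; exact pxa
    · simp only [map_mul, map_inv, rho_x, rho_y, rho_t]; exact nxa
  · apply orderOf_of hinj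
    · simp only [map_mul, map_inv, rho_x, rho_y, rho_t]; exact pxb
    · simp only [map_mul, map_inv, rho_x, rho_y, rho_t]; exact nxb

/-- J4 is simple, given its order and the faithfulness of the representation. -/
theorem isSimpleGroup (hcard : Nat.card Cfsg.Spor.J4 = 86775571046077562880)
    (hinj : Function.Injective rho) : IsSimpleGroup Cfsg.Spor.J4 := by
  refine Cfsg.Agent.Lib.SimpleByPrime.isSimpleGroup_of_prime_list 37 (by norm_num)
    [(2, 21), (3, 3), (5, 1), (7, 1), (11, 3), (23, 1), (29, 1), (31, 1), (43, 1)] ?_ ?_ ?_ ?_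
    {x, y, t} closure_eq_top ?_ (center_eq_bot hinj)
  · rw [hcard]; norm_num
  · intro q hq
    simp only [List.mem_cons, List.not_mem_nil, or_false] at hq
    rcases hq with rfl | rfl | rfl | rfl | rfl | rfl | rfl | rfl | rfl <;> norm_num
  · decide
  · decide +kernel
  · rintro s (rfl | rfl | rfl)
    · exact word_x hinj
    · exact word_y hinj
    · exact word_t hinj

/-- The 112-dimensional representation is faithful and J4 is simple, given an upper bound for the order and the
divisibility of the order of the image. -/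
theorem isJ4_of_le [Finite Cfsg.Spor.J4] (hle : Nat.card Cfsg.Spor.J4 ≤ 86775571046077562880)
    (hdvd : 86775571046077562880 ∣ Nat.card rho.range) :
    IsSimpleGroup Cfsg.Spor.J4 ∧ Nat.card Cfsg.Spor.J4 = 86775571046077562880 := by
  have h1 : Nat.card rho.range ≤ Nat.card Cfsg.Spor.J4 :=
    Nat.card_le_card_of_surjective rho.rangeRestrict rho.rangeRestrict_surjective
  have : Finite rho.range := Finite.of_surjective rho.rangeRestrict rho.rangeRestrict_surjective
  have h2 : 86775571046077562880 ≤ Nat.card rho.range := Nat.le_of_dvd Nat.card_pos hdvd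
  have h3 : Nat.card Cfsg.Spor.J4 = 86775571046077562880 := le_antisymm hle (h2.trans h1)
  have h4 : Nat.card rho.range = Nat.card Cfsg.Spor.J4 := by omega
  have hinj : Function.Injective rho := by
    have h5 : Function.Bijective rho.rangeRestrict :=
      (Nat.bijective_iff_surjective_and_card _).mpr ⟨rho.rangeRestrict_surjective, h4.symm⟩
    intro a b hab
    apply h5.1
    exact Subtype.ext hab
  exact ⟨isSimpleGroup h3 hinj, h3⟩

end Cfsg.Agent.J4.Simple
end
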