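import Cfsg.Agent.J4.Dvd
import Cfsg.Agent.J4.Pres
import Cfsg.Agent.J4.ClassesAbs
import Cfsg.Agent.S1711
import Mathlib
import Cfsg.Agent.Lib.F2Rank
set_option linter.all false

-- part: J4/Classes
section
/-!
# The two classes of involutions of J4

In the image `rho.range` of the presented group J4 in GL(112, 2) (assuming that the order of the
image is not divisible by `2^22`) every involution is conjugate to `beta qs 1024` (sextet involution of the
elementary abelian group `Q` of order `2^11`) or to `beta qs 5` (duad involution of `Q`).
-/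

set_option autoImplicit false

namespace Cfsg.Agent.J4.Classes

open Cfsg Cfsg.Agent.Lib Cfsg.Agent.Lib.F2MatGroup Cfsg.Agent.J4.Rep112 Cfsg.Agent.J4.Lower
open Cfsg.Agent.J4.LowerData Cfsg.Agent.J4.GroupLemmas Cfsg.Agent.J4.Beta
open Cfsg.Agent.J4.ClassesData Cfsg.Agent.J4.M24Hom Cfsg.Agent.J4.ClassesAbs
open Cfsg.Agent.J4.M24InvolData Cfsg.Agent.SporadicStructure.M24El

/-! ### The environment -/

theorem runG_append {G : Type*} [Group G] (a b : List (List ℕ)) (L : List G) :
    runG (a ++ b) L = runG b (runG a L) := by
  induction a generalizing L with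
  | nil => rfl
  | cons w a ih => rw [List.cons_append, runG_cons, runG_cons, ih]

theorem getG_runG {G : Type*} [Group G] (ws : List (List ℕ)) (L : List G) (k : ℕ) :
    getG (runG ws L) (ws.length + k) = getG L k := by
  induction ws generalizing L k with
  | nil => rw [List.length_nil, Nat.zero_add, runG_nil]
  | cons w ws ih =>
    rw [List.length_cons, runG_cons, show ws.length + 1 + k = ws.length + (k + 1) by ring, ih]
    rfl

theorem getG_take {G : Type*} [Group G] (L : List G) (m k : ℕ) (hk : k < m) :
    getG L k = (L.take m).getD k 1 := by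
  unfold getG
  rw [List.getD_eq_getElem?_getD, List.getD_eq_getElem?_getD, List.getElem?_take_of_lt hk]

/-- the environment after all programs -/
noncomputable def LC : List (GL (Fin 112) (ZMod 2)) := runG slpC (runG slpQ mgens)

theorem checkC : check 112 codes (slpQ ++ slpC) eqsC [] = true := by decide +kernel

theorem eqC : ∀ p ∈ eqsC, evG LC p.1 = evG LC p.2 := by
  have h := (check_sound (n := 112) (by norm_num) codes_gens checkC).1
  rw [runG_append] at h
  exact h

theorem LC_mem : ∀ g ∈ LC, g ∈ rho.range := runG_mem _ (runG_mem _ mgens_mem slpQ) slpC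

theorem qs_length : qs.length = 11 := rfl

theorem slpC_length : slpC.length = 42 := by decide

theorem getG_LC (k : ℕ) (hk : k < 11) : getG LC (42 + k) = qs.getD k 1 := by
  have h := getG_runG slpC (runG slpQ mgens) k
  rw [slpC_length] at h
  exact h.trans (getG_take _ 11 k hk)

theorem getX : getG LC 55 = rho x := rfl
theorem getYI : getG LC 56 = rho y := rfl
theorem getY : getG LC 57 = rho y⁻¹ := rfl

/-! ### Abstract consequences of the equations -/

section Abs

variable {G : Type*} [Group G] {L l : List G}

theorem abs_bw (hl : l.length = 11) (hL : ∀ k < 11, getG L (42 + k) = l.getD k 1) (v : ℕ) :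
    evG L (bw 11 42 v) = beta l v := by
  have h := evG_bw L l 42 v (by rw [hl]; exact hL)
  rwa [hl] at h

theorem abs_act (hl : l.length = 11) (hL : ∀ k < 11, getG L (42 + k) = l.getD k 1)
    (hsq : ∀ q ∈ l, q * q = 1) (hcomm : ∀ a ∈ l, ∀ b ∈ l, a * b = b * a)
    {E : List (List ℕ × List ℕ)} (hE : ∀ p ∈ E, evG L p.1 = evG L p.2)
    {g g' : G} {i j : ℕ} (hi : getG L i = g)
    (hj : getG L j = g') (hg : g' = g⁻¹) (A : List ℕ) (hA : A.length = 11)
    (h : ∀ k < 11, ([i, 42 + k, j], bw 11 42 (A.getD k 0)) ∈ E) (v : ℕ) :
    g * beta l v * g⁻¹ = beta l (lin A v) := by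
  refine conj_beta l hsq hcomm g ?_ v
  rw [List.forall₂_iff_get]
  refine ⟨hl.trans hA.symm, ?_⟩
  intro k h1 h2
  have hk : k < 11 := Nat.lt_of_lt_of_eq h1 hl
  have h3 := hE ([i, 42 + k, j], bw 11 42 (A.getD k 0)) (h k hk)
  rw [abs_bw hl hL, evG_cons, evG_cons, evG_single, hi, hj, hg, hL k hk, ← mul_assoc] at h3
  rw [List.getD_eq_getElem?_getD, List.getElem?_eq_getElem h1, Option.getD_some,
    List.getD_eq_getElem?_getD, List.getElem?_eq_getElem h2, Option.getD_some] at h3
  exact h3

/-- check of a representative -/
def repOk (E : List (List ℕ × List ℕ)) (im : ℕ) (v : ℕ)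
    (r : ℕ × ℕ × ℕ × ℕ × List ℕ × List ℕ × ℕ) : Bool :=
  E.contains ([r.2.2.1], bw 11 42 v ++ [im]) &&
    E.contains ([r.2.2.1, r.2.2.2.1], [r.2.2.2.1] ++ r.2.2.2.2.1 ++ [r.2.2.2.2.2.2] ++
      r.2.2.2.2.2.1) && E.contains (r.2.2.2.2.1 ++ r.2.2.2.2.2.1, []) &&
    (Nat.beq r.2.2.2.2.2.2 52 || Nat.beq r.2.2.2.2.2.2 40)

theorem abs_rep (hl : l.length = 11) (hL : ∀ k < 11, getG L (42 + k) = l.getD k 1)
    {R : Subgroup G} (hR : ∀ g ∈ L, g ∈ R)
    {E : List (List ℕ × List ℕ)} (hE : ∀ p ∈ E, evG L p.1 = evG L p.2)
    (hZ : getG L 52 = beta l 1024) (hD : getG L 40 = beta l 5)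
    {im v : ℕ} {r : ℕ × ℕ × ℕ × ℕ × List ℕ × List ℕ × ℕ} (h : repOk E im v r = true) :
    Good l R (beta l v * getG L im) := by
  unfold repOk at h
  rw [Bool.and_eq_true, Bool.and_eq_true, Bool.and_eq_true, List.contains_iff_mem,
    List.contains_iff_mem, List.contains_iff_mem, Bool.or_eq_true, Nat.beq_eq, Nat.beq_eq] at h
  obtain ⟨⟨⟨h1, h2⟩, h3⟩, h4⟩ := h
  have e1 := hE _ h1
  have e2 := hE _ h2
  have e3 := hE _ h3
  simp only [evG_append, evG_single, abs_bw hl hL] at e1
  simp only [evG_append, evG_single, evG_cons, evG_nil, mul_one] at e2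
  simp only [evG_append, evG_nil] at e3
  rw [← e1]
  have hu : getG L r.2.2.1 ∈ R := getG_mem R hR _
  have hp : getG L r.2.2.2.1 ∈ R := getG_mem R hR _
  have hw : evG L r.2.2.2.2.2.1 ∈ R := evG_mem R hR _
  have hw' : evG L r.2.2.2.2.1 = (evG L r.2.2.2.2.2.1)⁻¹ := eq_inv_of_mul_eq_one_left e3
  rw [hw'] at e2
  generalize getG L r.2.2.1 = u at *
  generalize getG L r.2.2.2.1 = p at *
  generalize evG L r.2.2.2.2.2.1 = w at *
  have hconj : w * p⁻¹ * u * (w * p⁻¹)⁻¹ = getG L r.2.2.2.2.2.2 := by
    have : w * p⁻¹ * u * (w * p⁻¹)⁻¹ = w * p⁻¹ * (u * p) * w⁻¹ := by group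
    rw [this, e2]; group
  refine ⟨w * p⁻¹, R.mul_mem hw (R.inv_mem hp), ?_⟩
  rcases h4 with h4 | h4
  · left; rw [hconj, h4, hZ]
  · right; rw [hconj, h4, hD]

end Abs

theorem repsOk1 : ([0, 34, 517, 551, 1047, 1077, 1554, 1584].all fun v =>
    reps.any fun r => repOk eqsC 41 v r) = true := by decide +kernel
theorem repsOk2 : ([0, 5].all fun v => reps.any fun r => repOk eqsC 55 v r) = true := by
  decide +kernel

/-- the homomorphism from M24 to GL(112, 2) -/
noncomputable def psi : M24 →* GL (Fin 112) (ZMod 2) := rho.comp Pres.phi

theorem psi_X : psi XM = rho x := congrArg rho Pres.phi_X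
theorem psi_Y : psi YM = rho y := congrArg rho Pres.phi_Y

theorem psi_injective : Function.Injective psi := by
  have : IsSimpleGroup M24 := Cfsg.Agent.S0365.result
  rw [← MonoidHom.ker_eq_bot_iff]
  rcases (inferInstance : psi.ker.Normal).eq_bot_or_eq_top with h | h
  · exact h
  · exfalso
    have hx : XM ∈ psi.ker := by rw [h]; trivial
    rw [MonoidHom.mem_ker, psi_X] at hx
    exact xg_ne hx

theorem psi_range : psi.range = Subgroup.closure {rho x, rho y} := range_eq psi psi_X psi_Y

theorem psi_norm : psi.range ≤ Subgroup.normalizer (Q : Set (GL (Fin 112) (ZMod 2))) := by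
  rw [psi_range]; exact xy_norm

theorem psi_le : psi.range ≤ rho.range := by
  rintro _ ⟨m, rfl⟩
  exact ⟨Pres.phi m, rfl⟩

theorem evG_shift {G : Type*} [Group G] {L L' : List G} {b : ℕ} {w : List ℕ}
    (h : ∀ i ∈ w, getG L (b + i) = getG L' i) : evG L (w.map (b + ·)) = evG L' w := by
  induction w with
  | nil => rfl
  | cons i w ih =>
    rw [List.map_cons, evG_cons, evG_cons, h i (List.mem_cons_self ..),
      ih fun j hj => h j (List.mem_cons_of_mem _ hj)]

/-- word for the involution of type `1^8 2^8` -/
def w1 : List ℕ := [0, 1, 0, 1, 0, 1, 0, 2, 0, 1, 0, 1, 0, 1, 0, 2, 0, 1, 0, 1, 0, 1, 0, 2,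
  0, 1, 0, 1, 0, 1, 0, 2]

theorem el_P1 : el P1 = evG [XM, YM, YM⁻¹] w1 := by
  apply Subtype.ext
  rw [coe_el Cfsg.Agent.J4.M24Invol.ok_P1]
  have e : ((evG [XM, YM, YM⁻¹] w1 : M24) : Equiv.Perm GolayPt) = evG [X, Y, Y⁻¹] w1 := rfl
  rw [e]
  ext1 p
  rw [Cfsg.Agent.SporadicA.GolayPerm.permOf_apply]
  revert p
  decide +kernel

theorem getG_41 : getG LC 41 = psi (el P1) := by
  have h1 := eqC ([41], w1.map (55 + ·)) (by decide +kernel)
  have h2 : evG LC (w1.map (55 + ·)) = evG [rho x, rho y, rho y⁻¹] w1 := by
    apply evG_shift
    intro i hi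
    have h3 : i = 0 ∨ i = 1 ∨ i = 2 := by
      have : ∀ i ∈ w1, i = 0 ∨ i = 1 ∨ i = 2 := by decide
      exact this i hi
    rcases h3 with rfl | rfl | rfl
    · exact getX
    · exact getYI
    · exact getY
  have h4 : evG [rho x, rho y, rho y⁻¹] w1 = psi (evG [XM, YM, YM⁻¹] w1) := by
    rw [← evG_map]
    have h5 : ([XM, YM, YM⁻¹].map psi : List (GL (Fin 112) (ZMod 2))) =
        [rho x, rho y, rho y⁻¹] := by
      rw [List.map_cons, List.map_cons, List.map_cons, List.map_nil, map_inv, psi_X, psi_Y,
        map_inv]
    rw [h5]
  rw [el_P1, ← h4, ← h2]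
  exact (evG_single LC 41).symm.trans h1

theorem getG_52 : getG LC 52 = beta qs 1024 := by
  have h := abs_bw (L := LC) qs_length getG_LC 1024
  exact (evG_single LC 52).symm.trans h

theorem getG_40 : getG LC 40 = beta qs 5 := by
  have h := abs_bw (L := LC) qs_length getG_LC 5
  have h2 := eqC ([40], bw 11 42 5) (by decide +kernel)
  exact ((evG_single LC 40).symm.trans h2).trans h

theorem actX (v : ℕ) : rho x * beta qs v * (rho x)⁻¹ = beta qs (lin Ax v) := by
  have h := abs_act (L := LC) qs_length getG_LC qs_sq qs_comm eqC getX getX
  exact h (inv_eq_of_mul_eq_one_left (mul_self_aux (L := LC) getX (by rw [rho_x]; exact rel1))).symm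
    Ax rfl (by decide +kernel) v

theorem actY (v : ℕ) : (rho y)⁻¹ * beta qs v * ((rho y)⁻¹)⁻¹ = beta qs (lin Ay v) := by
  have h := abs_act (L := LC) qs_length getG_LC qs_sq qs_comm eqC (getY.trans (map_inv rho y)) getYI
  exact h (inv_inv _).symm Ay rfl (by decide +kernel) v

theorem eq_inv_of_words {G : Type*} [Group G] {L : List G} {i : ℕ} {g : G} (h : getG L i = g)
    (h2 : evG L [i, i] = evG L []) : g = g⁻¹ := by
  rw [evG_cons, evG_single, evG_nil, h] at h2
  exact eq_inv_of_mul_eq_one_left h2

theorem act1 (v : ℕ) :
    psi (el P1) * beta qs v * (psi (el P1))⁻¹ = beta qs (lin A1 v) := by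
  have h := abs_act (L := LC) qs_length getG_LC qs_sq qs_comm eqC getG_41 getG_41
  have h2 := eqC ([41, 41], []) (by decide +kernel)
  exact h (eq_inv_of_words (L := LC) getG_41 h2) A1 rfl (by decide +kernel) v

theorem reps1 : ∀ v ∈ [0, 34, 517, 551, 1047, 1077, 1554, 1584],
    Good qs rho.range (beta qs v * psi (el P1)) := by
  intro v hv
  have h := repsOk1
  rw [List.all_eq_true] at h
  have h1 := h v hv
  rw [List.any_eq_true] at h1
  obtain ⟨r, -, hr⟩ := h1
  rw [← getG_41]
  exact abs_rep (L := LC) qs_length getG_LC LC_mem eqC getG_52 getG_40 hr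

theorem reps2 : ∀ v ∈ [0, 5], Good qs rho.range (beta qs v * psi XM) := by
  intro v hv
  have h := repsOk2
  rw [List.all_eq_true] at h
  have h1 := h v hv
  rw [List.any_eq_true] at h1
  obtain ⟨r, -, hr⟩ := h1
  rw [psi_X, ← getX]
  exact abs_rep (L := LC) qs_length getG_LC LC_mem eqC getG_52 getG_40 hr

theorem hyp : Hyp rho.range qs psi where
  len := qs_length
  sq := qs_sq
  comm := qs_comm
  ind := qs_props.2
  mem := qs_mem
  le := psi_le
  inj := psi_injective
  norm := psi_norm
  actX := by rw [psi_X]; exact actX
  actY := by rw [psi_Y]; exact actY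
  act1 := act1
  reps1 := reps1
  reps2 := reps2

theorem dvd_card_K : 2 ^ 21 ∣ Nat.card (Q ⊔ psi.range : Subgroup (GL (Fin 112) (ZMod 2))) := by
  have hsimple : IsSimpleGroup M24 := Cfsg.Agent.S0365.result
  have h1 := card_mul_dvd_of_simple Q Q_props.1 psi ⟨XM, by rw [psi_X]; exact xg_ne⟩
    LowerBound.not_two_group_M24 psi_norm
  refine Dvd.dvd.trans ?_ h1
  rw [Cfsg.Agent.S0364.result, show 2 ^ 21 = 2 ^ 11 * 2 ^ 10 from rfl]
  exact Nat.mul_dvd_mul Q_props.2 (by norm_num)

theorem K_le : Q ⊔ psi.range ≤ rho.range := sup_le Q_le psi_le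

/-- Every involution of the image of J4 is conjugate to the sextet involution or to the duad
involution of `Q` (if the order of the image is not divisible by `2^22`). -/
theorem range_good (h22 : ¬ 2 ^ 22 ∣ Nat.card rho.range) (u : GL (Fin 112) (ZMod 2))
    (huR : u ∈ rho.range) (hu : u * u = 1) (hu1 : u ≠ 1) : Good qs rho.range u := by
  refine good_of_invol hyp ?_ u huR hu hu1
  intro h2
  apply h22
  have h3 := ((Q ⊔ psi.range).subgroupOf rho.range).card_mul_index
  have h4 : Nat.card ((Q ⊔ psi.range).subgroupOf rho.range) =
      Nat.card (Q ⊔ psi.range : Subgroup (GL (Fin 112) (ZMod 2))) :=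
    Nat.card_congr (Subgroup.subgroupOfEquivOfLe K_le).toEquiv
  rw [← h3, h4, show 2 ^ 22 = 2 ^ 21 * 2 from rfl]
  exact Nat.mul_dvd_mul dvd_card_K h2

end Cfsg.Agent.J4.Classes
end

-- part: J4/NonConjData
section
/-!
# Data for the non-conjugacy of the two classes of involutions of J4
-/

set_option autoImplicit false

namespace Cfsg.Agent.J4.NonConjData

/-- packed matrix of the sextet involution -/
def Zc : ℕ := 0x692735a19334d62cead8f8a1702f4133472f77d1f895d66847878b5e60dea59ea95585766b21ab5036f0b83a2710bdb354d0a89ef6761e41051130763c7a15bd2c4a3bea459f35125a2356d5d9b866e33c4a6f14ccbe351f9c42cf4dda4f08605c2d567ec6b55c275ca461427f7956b80318b688758235dff66acedd0db576ea6c8ca08c06618123d7890ea259b2d544bc174fc8c06e7d0d6b0c9bc4e26eb7ff7b3de9f8b69adc068519b82c24dea90c57dcf214846663bb98dda18f8c9e05a260cfb3c82c40eb7add28032c628e52d2bbf7d8aa4f5adc56810660848073c865441cd4a97a7fa42b479395ced200f5409a5cc22e49029d6ca4bda799bdbabbc6e04fb40ac5f9ea85213436ba953a9db8103fe8cc49d54097e80eb40fbaad4dea9605ccff0e7ee2e6e427df2a6edd7beb2cdbfda4a0da567b34b746c7948be10dce25355df0a531a07c1f8f0400743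61b65bf40293e719b0888d78a537b8dd9a50909820babba2228ddb54fc89589dcd3cb4ab4a79c86a61513f2daa30f5ade5f87f4708bbe83c844d6a3ed09720fd5be072a3fb55048dba24f5b4c5e8ba67f0da473c865daaa4e5ade5683a460869513c8647ea81f5e135e8eb1bf06d11c345a507d35e7cd9ca5494d5fa5d6c5da5eea5410aac7b2d75811d1dfe2da77f048cf79219e56e5223f147f7907bca8e3f63ee1cee1752a241fdaf974ca21cee0db55298a79ed179910ae250dd853718635eee69aa03cb7f6d1f6ecfec9371d08c1a970322008400112090402008b3de00015f07d0f1b4b22fbe79a0fbfcabff099f5aa367d35de2750bc034c5c57183f8ecf60001c003e71c28acfd1fff5fffa7dfef7b9f0708207fffe964ba5eec6e8ea38db4ddd3c1fb7e7f671f6edfedbbddf00c10ffc3e3d4a374f64bb5d5d02abea9253df42d482827bdc02a9078294a2bf99b3c4b6ce835e766bf0e97d0d43b842d44141124802aa1082906000010e865243618c2199d5cfae15b4218008100110010553c08d3cb7fc215bba0ddfcdd58db28a44c8a5683fd3f1b95789af904a093da05f2c1abc6eb051163c7c9ed3529f34742702b654d36bdf1741894868c6983a1284741db8d3727527743dd378070606060609082c0702060049a7996fa306ca539f0f4592ca0b90eb99063a5c606fab306a8752fe5197bb093a539f60570f8e97a303d087a042b2d4db2bdd170b812a4b43bc3a490d45327a3dd75eb36a1a2784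33ae83f7160bd959d0bbe421bd2b8892296116c88b004e0d26b1de73b280084004800908040f096c8ffc00471db712e24451d794844df1cc084db224dbdbdd270f812456c29020b2db24b24ddc84274c7e1cda8397d4bd42d4b2df7bc4a64384093c105aa5a55a00000000070000d01fa83c3cc3c30000000002c38403fc10b2dbdb4ddb492da925557568ba0acca533a5c350e982788378223e12ed21b784ed22d2fe335498af0a3a030395959a9c265030469bf23e2322bb44224b2b5b58b27ffe78889699969699000c368d8105dd7bee10c30f55995a97254f12ce0a9012b94bbb4bbbb4bd3bb504862ce4f421ca09a39fa39f3acf136e02383bbaac3af69f3a567349b5088b5867a0c509539f539f05cf326e8038243ae2d1de12b871fdff8884a7d6d6cc633993c9500d7c8f000a97a9d712699600006994069007000a03de00e881b2db81177800908fd8434800c33cc33c00fffc270001fc872f868e18e78eb2df718e2225492b4801b224244db2df7249322549abefb9ff0000ff00fffcd8cd5488bb682424b2b2dbb2df7bc4a38001d31ba024b2b2dbb2df7703812a8b500bba699696696996596db896ef18120faa5555aa55aeb556ab5575687d2933cc33cc33c8dcc72d33a637b4a4f0f00f0ff0f03f1c2e0e3e47dba3ffffffff00000ffff00001c7a80000ff00ffff03f01c1f01e3c073dfff0000ff00fff01fef01fdf86c2100ffff0000ffffe01f01fc38603effff0000fffc0003f0001e3fd41e69966996966a5691b896f0e3d40eaaaaaaaa555145494b54896de008cccc3333333723273d325bf13c1af0f00f0ff0f030e3d10e3e7f501c00ff00ffff03ffe3e001e3ffa41f696996969695a68e5868f31c4e2055aa55aaaa52baaaa4aa9495a120cccccccccccb2324c23244310c800ff00ff0f00fc0fc3ef03c78d7800000fffffffc0003ffffe03fcbe0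
/-- packed matrix of the duad involution -/
def Dc : ℕ := 0x6fca00011cc5a9b40f5dce1d9850bb772b40078112711a88d5fc04e26f355a5ee96a56556507cde51529b48781e00d21228c6edd2843199a1ed271088314682435d323fca176d27881aeda2e0ea1a4dc02eb77c67888819423834828c9dca7d949b2ddb47e32e32ee83d50dc7570f01c06a301000fd000c447ba1d2888edccaac4c9c517097a3f473e851f24ffa5585cac2823c09eb8a19e9c85a33a6d6a0f771cf12eb4724f6eeedd888acf2eb1ce5ff3538848722b66ff94e1f3a423d2364901155b85dbb2795041178b24019c7928f62890ca687e6cfe59a9ea7713c86ada5cf800ff5663ba9015f943c553e5ca513c3c33fb8a5b1846cfb2853eddea4d2482d9644b60d7dcae6c8309679696cc08a936582bed68d4cb907f6666fa4c1b7a799895faa3dc2da781e8d23decb7a4652b8f5dad09499696fae1b81e530b03cc0ac790d3696960be4be9ad4af2316edae6e87ee8ef1233dfba0067585749a4306969c893d7a1a4c69895361a7a7181e87c79cfefa95ac861d2a96d0c969697c1b1265af50dceccc1a1286969c21fd7a1a4c7da92fdda92db696964be5da9aa25d2c96b1a684e96969dedb12e5af50dcc4ccb687e969691eda7e25f81cc3449cf847b6996cd232d3db0822f371208d2dd5555a8b81d7ebd35017080ce63f5dbb213379a213ff21737a3e960f9177ed3fc9f35f6b4ef310a721db81871898dc76e24b01f77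3e96bb11e881d01a282e073492f823ed0a3900000d943f70056b47e48116f9c5fffff153ea87f2e01e2d271181711781b8988b321d170f2053e418d4177e2234a4c1ff556729d2447e71177e47c48b2dfde90ce00be4005a0000062c13c0057fe0f9050018b2177e28b8a161ff55662f199e003c00000c001660057fe1f80104288d00008b7138ac010ada3ee9c9d4bdffff88420bc7f2019e367671288d00007b7c78ac0036a03384e6e881ffff8843a803f2c21e052311c0f3fffffccf0f4ffcc93a07774bfccffffff33fec8bf2c93e06a71b144e81178117b4880fd0defbe1f0eedd4747e2e538d8e9e79fb0a00ede472277d2874d3555eb2bce89ba7e8e1428eb29f4cdb8efc77240027de41b7db12b5478a814d00c2f890606060609082318dc0600734d4421b81274e280b2c8702083b2c068b28117db17212e691b717a72a66933f0003c0038d55989994b42c3687e8e1718e819f4cc9de9cf3240026aa60000c3395b74045133a67df372d7177e4d20a04df6df02118f3c30030000669954880b0b8ea0802e03300000000014880050c10001c42bbd177ee880b4c5f62a83d2c1f800ff0000000000000000020242c27ee8177e2bb9116dfc2b76ec60ec7ee8177ee771c16dfde90ea344067ee8177e8e18616df3d489d0d40a7ee8177e42d0b16dfde90e600b0000000000fffff0000f255713b2360f0f0000ffffcf1c0f26cd25be9099660000aa5326700b1c6bb1403724b2177e8e1914c5f16e0a424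c188e18177e177dc18df72d496cfc1f00000000ccc8d000029ccea3d69e5a5a00006698e5a809c18c319c2aaa5500009964daa806f1378073502bbd177e8e192bd9f1bd0e7645be333300000000dcd800f18583d28c2bbd177e8e192bd9f1bc4c719e5e333300009966bcd806992618790900000000aa5140000b66c427911455aa0000aa5005540b000e045e20669900006698098c09000c045e22ffff000055ad4ffc043c640eb581000000006699900009fe02019d7400000000ccc8d000023d863708f48117177ee8820e91f82a954e997e000000000000000000a548c381c87ee8177ee881f16df88fc272d0a8699696699669a6924869111ff1efaaaa55555552b54abbab68903916333333333334dcdb3dcdbbcff09bf0f00f0f0f0fc0e3def1c040384300ff00ff00fc0fe3effe1dc7f3c000000000fffff0000ffffe3fc800ffff0000fffc0ffc0f001e07cbfeffff00000003fffc00ffe0383bfeffff00000003fffc00ffe03fc81e966996696995a96e47690f1c281155555555aaaebab6b4ab76921c17cccc3333333723273d325bf13c1af0f00f0ff0f030e3d10e3e7f501c00ff00ffff03ffe3e001e3ffa41f000000000000000000000000000f0000000000000000000000000008000000000000000000000000001b000000000000000000000000001d000000000000000000000000001e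
/-- 62 independent vectors fixed by the sextet involution -/
def F : ℕ := 0xbd670e182a638000000000000000b2680117da6c40000000000000007faff3bab8f920000000000000009db5f24c524b10000000000000006aa08742a6390800000000000000aee9dcfda88604000000000000007820f23c37ff0080000000000000a3ae6e398fb701400000000000009be4601f001d012000000000000080ebbd8c82e00210000000000000b3d9676b8ceb0108000000000000081e8bc7740600040000000000006d2019a494250002000000000000bd7375dd2a730001000000000000bf0cccda4efd0200800000000000a36b751801f401004000000000005afd83185d0b00002000000000006eded238d7f60300100000000000cc376b3a73bb0100080000000000b8bb7e28f06000000400000000002903e7f12ec001000200000000001d80fb669efc0000010000000000035387b187270100008000000000bec060879fd5010000400000000077cbba9f3ed20200002000000000ff129a1e3588000000100000000000856b789be50100000800000000f44e93bf5c120100000400000000afa012b7035501000002000000008a513ed9d00f02000001000000004c1a643dbf7c0100000080000000e171963ae2270100000040000000b61be1e65aa20100000020000000b4647569b0f30100000010000000eb68d966465301000000080000009b20fd2f73ad030000000400000084dc585a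49160300000002000000fbd3eaa4dacf0100000001000000b54a8a467f8100000000008000001c7c679e8ceb0100000000400000eb519db1c81400000000002000000ad7a5bb958300000000001000001e8638f55d97000000000008000058c97bbf7b220000000000040000ff960303cc3b0000000000020000fbb6ecc88c5701000000000100005ce99474c44e010000000000800047188de1b7b90000000000004000550d7c1852fb0000000000002000f817849b7ba20000000000001000f8177b6484a2000000000000080015fd8a9d61e000000000000004004d340edde5c20000000000000200ad73fb801a9e0000000000000100a953ebb4a5f201000000000000804efc658ddef001000000000000400000ffff00fc000000000000002018c6723a48c500000000000000100096fc03ccc70000000000000008165c1d3169150100000000000004091b176c9649010000000000000200ff00fffffc0000000000000001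
/-- column selection -/
def W1 : ℕ := 0x20000000000000000000000000001000000000000000000000000000080000000000000000000000000004000000000000000000000000000200000000000000000000000000010000000000000000000000000000000000000000000000000000000000000000000000000000000000008000000000000000000000000000400000000000000000000000000020000000000000000000000000001000000000000000000000000000080000000000000000000000000004000000000000000000000000000200000000000000000000000000010000000000000000000000000000800000000000000000000000000040000000000000000000000000002000000000000000000000000000100000000000000000000000000008000000000000000000000000000400000000000000000000000000020000000000000000000000000001000000000000000000000000000080000000000000000000000000004000000000000000000000000000200000000000000000000000000010000000000000000000000000000800000000000000000000000000040000000000000000000000000002000000000000000000000000000100000000000000000000000000008000000000000000000000000000400000000000000000000000000020000000000000000000000000001000000000000000000000000000080000000000000000000000000004000000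00000000000000000000020000000000000000000000000001000000000000000000000000000080000000000000000000000000004000000000000000000000000000200000000000000000000000000010000000000000000000000000000800000000000000000000000000040000000000000000000000000002000000000000000000000000000100000000000000000000000000008000000000000000000000000000400000000000000000000000000020000000000000000000000000001000000000000000000000000000080000000000000000000000000004000000000000000000000000000200000000000000000000000000010000000000000000000000000000800000000000000000000000000040000000000000000000000000002000000000000000000000000000100000000000000000000000000008000000000000000000000000000400000000000000000000000000020000000000000000000000000001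
/-- diagonal matrix of rank 62 -/
def Ea : ℕ := 0x2000000000000000000000000000100000000000000000000000000008000000000000000000000000000400000000000000000000000000020000000000000000000000000001000000000000000000000000000080000000000000000000000000004000000000000000000000000000200000000000000000000000000010000000000000000000000000000800000000000000000000000000040000000000000000000000000002000000000000000000000000000100000000000000000000000000008000000000000000000000000000400000000000000000000000000020000000000000000000000000001000000000000000000000000000080000000000000000000000000004000000000000000000000000000200000000000000000000000000010000000000000000000000000000800000000000000000000000000040000000000000000000000000002000000000000000000000000000100000000000000000000000000008000000000000000000000000000400000000000000000000000000020000000000000000000000000001000000000000000000000000000080000000000000000000000000004000000000000000000000000000200000000000000000000000000010000000000000000000000000000800000000000000000000000000040000000000000000000000000002000000000000000000000000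0001000000000000000000000000000080000000000000000000000000004000000000000000000000000000200000000000000000000000000010000000000000000000000000000800000000000000000000000000040000000000000000000000000002000000000000000000000000000100000000000000000000000000008000000000000000000000000000400000000000000000000000000020000000000000000000000000001000000000000000000000000000080000000000000000000000000004000000000000000000000000000200000000000000000000000000010000000000000000000000000000800000000000000000000000000040000000000000000000000000002000000000000000000000000000100000000000000000000000000008000000000000000000000000000400000000000000000000000000020000000000000000000000000001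
/-- row operations -/
def U : ℕ := 0x1191051e169d006e4083500000000170110806c030026c811e000000019151cc06cc010eea82741000000080571816a070460203761000000080571302323048cd803000000011a1005c1635100401816000000001c051c4020b3126ea816a00000010501604163a0102af027c00000000d14715000e3004a8007810000011701141003b0000038362000000119012830042702a22012a1000000030060902db710a6000081000001031445d041d00648f011200000010d1464c04cf0166c281081000001140169b14ab61480783000000001000460f163c7164e583161000000030579502063008eb8042000000102040060489706a21820610000001b14505002231222b02041000001020109d10e17008af022e00000010114416028f302cc4024e0000001150001706ed316ca6016a10000011b1518e1261416a8d014c000000104044571467002c86021810000001d1125e00f3016ee80304100000016110c50295506664804e000000116105de16a010626701541000000120020514ad406888033810000001f053d614d7710a0c005200000000e1404402a1406ea3021e00000011a156d40299400c66036410000010e115ca10bd006448017c0000001170009b06c1106e25024000000011a106d702a510228c805c00000010310751146b406a4801320000001191558816c36142a482061000000000009c163361628b820410000000d00200027e0020418052000000103046c414ad2146a2811a1000001031570a1407204ccc015000000000d05153140b0126cb0018100000103015060238014c06836200000000d007d002d6700603002200000000d0071014083162c6025e0000000000064016de1168e4013c00000010e0121600ee71460880000000000000569000a9112eab820c000000114013911401602e8c034a1000001191030c00a27142c48062000000114040931449214440024810000011404593144a010c68000e000000114040890294312ce90132000000000056940000400c2900000000001140409e0294616ce0013200000011401610029450248d01320000001140409302944068ad01321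
/-- column selection -/
def W2 : ℕ := 0x80000000000000000000000000000000000000000000000000000000000000000000000000000000000000000000000000000000000000000000000000000000000000000000000000000000000000000000000040000000000000000000000000002000000000000000000000000000000000000000000000000000000010000000000000000000000000000800000000000000000000000000040000000000000000000000000002000000000000000000000000000100000000000000000000000000008000000000000000000000000000400000000000000000000000000020000000000000000000000000001000000000000000000000000000080000000000000000000000000004000000000000000000000000000200000000000000000000000000010000000000000000000000000000800000000000000000000000000040000000000000000000000000002000000000000000000000000000100000000000000000000000000008000000000000000000000000000400000000000000000000000000020000000000000000000000000001000000000000000000000000000080000000000000000000000000004000000000000000000000000000200000000000000000000000000010000000000000000000000000000800000000000000000000000000040000000000000000000000000002000000000000000000000000000100000000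0000000000000000000080000000000000000000000000004000000000000000000000000000200000000000000000000000000010000000000000000000000000000800000000000000000000000000040000000000000000000000000002000000000000000000000000000100000000000000000000000000008000000000000000000000000000400000000000000000000000000020000000000000000000000000001000000000000000000000000000080000000000000000000000000004000000000000000000000000000200000000000000000000000000010000000000000000000000000000800000000000000000000000000040000000000000000000000000002000000000000000000000000000100000000000000000000000000008000000000000000000000000000400000000000000000000000000020000000000000000000000000001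
/-- diagonal matrix of rank 56 -/
def Eb : ℕ := 0x800000000000000000000000000040000000000000000000000000002000000000000000000000000000100000000000000000000000000008000000000000000000000000000400000000000000000000000000020000000000000000000000000001000000000000000000000000000080000000000000000000000000004000000000000000000000000000200000000000000000000000000010000000000000000000000000000800000000000000000000000000040000000000000000000000000002000000000000000000000000000100000000000000000000000000008000000000000000000000000000400000000000000000000000000020000000000000000000000000001000000000000000000000000000080000000000000000000000000004000000000000000000000000000200000000000000000000000000010000000000000000000000000000800000000000000000000000000040000000000000000000000000002000000000000000000000000000100000000000000000000000000008000000000000000000000000000400000000000000000000000000020000000000000000000000000001000000000000000000000000000080000000000000000000000000004000000000000000000000000000200000000000000000000000000010000000000000000000000000000800000000000000000000000000040000000000000000000000000002000000000000000000000000000100000000000000000000000000008000000000000000000000000000400000000000000000000000000020000000000000000000000000001000000000000000000000000000080000000000000000000000000004000000000000000000000000000200000000000000000000000000010000000000000000000000000000800000000000000000000000000040000000000000000000000000002000000000000000000000000000100000000000000000000000000008000000000000000000000000000400000000000000000000000000020000000000000000000000000001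

end Cfsg.Agent.J4.NonConjData
end

-- part: J4/NonConj
section
/-!
# The sextet and the duad involutions are not conjugate in GL(112, 2)
-/

set_option autoImplicit false

namespace Cfsg.Agent.J4.NonConj

open Cfsg.Agent.Lib Cfsg.Agent.Lib.F2MatGroup Cfsg.Agent.J4.Rep112 Cfsg.Agent.J4.Lower
open Cfsg.Agent.J4.Classes Cfsg.Agent.J4.ClassesData Cfsg.Agent.J4.LowerData Cfsg.Agent.J4.Beta
open Cfsg.Agent.J4.NonConjData

theorem checkZD : run 112 (slpQ ++ slpC) codes (fun L =>
    cond (Nat.beq (get (F2Mat.one 112) L 52) Zc) (Nat.beq (get (F2Mat.one 112) L 40) Dc) false) =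
    true := by decide +kernel

theorem codes_ZD : Codes 112 (beta qs 1024) Zc ∧ Codes 112 (beta qs 5) Dc := by
  obtain ⟨L', h', hk⟩ := run_sound codes_gens checkZD
  rcases hb : Nat.beq (get (F2Mat.one 112) L' 52) Zc with _ | _
  · rw [hb] at hk; exact absurd hk Bool.false_ne_true
  · rw [hb] at hk
    have h1 := codes_get h' 52
    have h2 := codes_get h' 40
    have hk' : Nat.beq (get (F2Mat.one 112) L' 40) Dc = true := hk
    rw [Nat.eq_of_beq_eq_true hb, runG_append] at h1
    rw [Nat.eq_of_beq_eq_true hk', runG_append] at h2
    rw [← getG_52, ← getG_40]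
    exact ⟨h1, h2⟩

theorem not_conj (g : GL (Fin 112) (ZMod 2)) : g * beta qs 1024 * g⁻¹ ≠ beta qs 5 := by
  have h := F2Rank.not_conj (n := 112) (a := 62) (b := 56) (by norm_num) (by norm_num) (by norm_num)
    codes_ZD.1 codes_ZD.2 (F := F) (W' := W1) (Ea := Ea) (U := U) (W := W2) (Eb := Eb)
    (by decide +kernel) (by decide +kernel) (by decide +kernel) (by decide +kernel)
    (by decide +kernel) g
  exact h

end Cfsg.Agent.J4.NonConj
end

-- part: J4/Invol
section
/-!
# The two classes of involutions of the presented group J4

`s` is the third generator `(y * w⁻¹ * t * w) ^ 3`, `w = (y * x) ^ 4 * y⁻¹ * x`, of the subgroup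
`2^11 : M24` of the presented group `Spor.J4`; `EJ` is the subgroup generated by its conjugates under
`M24 = ⟨x, y⟩`.  The theorems assume that the representation `rho` is faithful (`inj`) and that the
order of the image is not divisible by `2^22`.
-/

set_option autoImplicit false

namespace Cfsg.Agent.J4.Invol

open Cfsg Cfsg.Agent.Lib Cfsg.Agent.Lib.F2MatGroup Cfsg.Agent.J4.Rep112 Cfsg.Agent.J4.Lower
open Cfsg.Agent.J4.LowerData Cfsg.Agent.J4.GroupLemmas Cfsg.Agent.J4.Beta
open Cfsg.Agent.J4.ClassesData Cfsg.Agent.J4.M24Hom Cfsg.Agent.J4.ClassesAbs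
open Cfsg.Agent.J4.Classes Cfsg.Agent.J4.NonConj Cfsg.Agent.J4.NonConjData

/-- the word `w` -/
def wJ : Cfsg.Spor.J4 := (y * x) ^ 4 * y⁻¹ * x

/-- the sextet involution -/
def s : Cfsg.Spor.J4 := (y * wJ⁻¹ * t * wJ) ^ 3

theorem rho_s : rho s = beta qs 1024 := by
  have h : rho s = (yg * ((yg * xg) ^ 4 * yg⁻¹ * xg)⁻¹ * tg * ((yg * xg) ^ 4 * yg⁻¹ * xg)) ^ 3 := by
    simp only [s, wJ, map_pow, map_mul, map_inv, rho_x, rho_y, rho_t]
  rw [h]
  simp only [mul_inv_rev, inv_inv, ← inv_pow]
  apply Codes.eq (n := 112)
  · codes_tac
  · exact codes_ZD.1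
  · decide +kernel

/-- the duad involution -/
def d : Cfsg.Spor.J4 := getG (runG slpC (runG slpQ gens)) 40

theorem rho_d : rho d = beta qs 5 := by
  have h := getG_map rho (runG slpC (runG slpQ gens)) 40
  rw [← runG_map, ← runG_map] at h
  rw [← getG_40]
  exact h.symm

/-- the elementary abelian subgroup of order `2^11`: generated by the conjugates of `s` under M24 -/
def EJ : Subgroup Cfsg.Spor.J4 :=
  Subgroup.closure {e | ∃ g : M24, e = Pres.phi g * s * (Pres.phi g)⁻¹}

theorem psi_eq (g : M24) : psi g = rho (Pres.phi g) := rfl

section Abs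

variable {G : Type*} [Group G] [Finite G] {R : Subgroup G} {l : List G} {phi : M24 →* G}

/-- the nonzero vectors are M24-conjugate to 1024 or to 5 -/
theorem conj_arr (h : Hyp R l phi) (i : ℕ) (hi : i < 2047) :
    ∃ m : M24, beta l (tget arr 11 i) = phi m * beta l (if i < 1771 then 1024 else 5) * (phi m)⁻¹ := by
  have par_ok : ((List.range 2047).all fun i => Nat.beq i 0 || Nat.beq i 1771 ||
      (Nat.blt i 1771 == Nat.blt (tget par 11 i) 1771)) = true := by decide +kernel
  induction i using Nat.strong_induction_on with
  | _ i ih =>
    have h0 := orb_ok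
    unfold orbOk at h0
    rw [Bool.and_eq_true, Bool.and_eq_true, List.all_eq_true] at h0
    obtain ⟨⟨h1, -⟩, h2⟩ := h0
    rw [Bool.and_eq_true, Nat.beq_eq, Nat.beq_eq] at h2
    have h3 := h1 i (List.mem_range.mpr hi)
    rw [Bool.or_eq_true, Bool.or_eq_true, Nat.beq_eq, Nat.beq_eq, Bool.and_eq_true, Nat.blt_eq,
      Nat.beq_eq] at h3
    rw [List.all_eq_true] at par_ok
    have h4 := par_ok i (List.mem_range.mpr hi)
    rw [Bool.or_eq_true, Bool.or_eq_true, Nat.beq_eq, Nat.beq_eq, beq_iff_eq] at h4
    rcases h3 with (rfl | rfl) | ⟨h5, h6⟩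
    · rw [h2.1]
      exact ⟨1, by simp⟩
    · rw [h2.2]
      exact ⟨1, by simp⟩
    · rcases h4 with (rfl | rfl) | h4
      · omega
      · rw [h2.2]
        exact ⟨1, by simp⟩
      · have h7 : i < 1771 ↔ tget par 11 i < 1771 := by
          rw [← Nat.blt_eq, ← Nat.blt_eq, h4]
        obtain ⟨m, hm⟩ := ih _ h5 (by omega)
        have h8 : (if tget par 11 i < 1771 then 1024 else 5) = if i < 1771 then 1024 else 5 := by
          simp only [h7]
        rw [h8] at hm
        rw [h6]
        rcases hb : Nat.beq (tget lets 1 i) 0 with _ | _
        · rw [cond_false, ← h.actY, hm]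
          refine ⟨YM⁻¹ * m, ?_⟩
          rw [map_mul, map_inv]; group
        · rw [cond_true, ← h.actX, hm]
          refine ⟨XM * m, ?_⟩
          rw [map_mul]; group

theorem conj_beta_cases (h : Hyp R l phi) (v : ℕ) (hv : v < 2048) (h0 : v ≠ 0) :
    ∃ m : M24, beta l v = phi m * beta l 1024 * (phi m)⁻¹ ∨
      beta l v = phi m * beta l 5 * (phi m)⁻¹ := by
  have h1 := orb_ok
  unfold orbOk at h1
  rw [Bool.and_eq_true, Bool.and_eq_true, List.all_eq_true, List.all_eq_true] at h1
  have h2 := h1.1.2 v (List.mem_range.mpr hv)
  rw [Bool.or_eq_true, Nat.beq_eq, Bool.and_eq_true, Nat.blt_eq, Nat.beq_eq] at h2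
  rcases h2 with h2 | ⟨h2, h3⟩
  · exact absurd h2 h0
  · obtain ⟨m, hm⟩ := conj_arr h _ h2
    rw [h3] at hm
    refine ⟨m, ?_⟩
    split_ifs at hm
    · exact Or.inl hm
    · exact Or.inr hm

theorem mem_of_conj (h : Hyp R l phi) (S : Subgroup G)
    (hS : ∀ m : M24, phi m * beta l 1024 * (phi m)⁻¹ ∈ S) : ∀ q ∈ l, q ∈ S := by
  have hpos : ∀ k < 11, tget pos 11 (2 ^ k) < 1771 := by decide +kernel
  have key : ∀ k < 11, beta l (2 ^ k) ∈ S := by
    intro k hk
    have h1 := orb_ok
    unfold orbOk at h1
    rw [Bool.and_eq_true, Bool.and_eq_true, List.all_eq_true, List.all_eq_true] at h1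
    have hk2 : 2 ^ k < 2048 := Nat.pow_lt_pow_right (by norm_num) hk
    have h2 := h1.1.2 (2 ^ k) (List.mem_range.mpr hk2)
    rw [Bool.or_eq_true, Nat.beq_eq, Bool.and_eq_true, Nat.blt_eq, Nat.beq_eq] at h2
    rcases h2 with h2 | ⟨h2, h3⟩
    · exact absurd h2 (by positivity)
    · obtain ⟨m, hm⟩ := conj_arr h _ h2
      rw [h3, if_pos (hpos k hk)] at hm
      rw [hm]
      exact hS m
  have aux : ∀ (l' : List G) (n : ℕ), (∀ k < l'.length, beta l' (2 ^ k) ∈ S) → ∀ q ∈ l', q ∈ S := by
    intro l' n hl q hq
    induction l' with
    | nil => simp at hq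
    | cons a l' ih =>
      rcases List.mem_cons.mp hq with rfl | hq
      · have := hl 0 (by simp)
        rw [beta_cons] at this
        simpa [beta_zero] using this
      · refine ih (fun k hk => ?_) hq
        have := hl (k + 1) (by simpa using hk)
        rw [beta_cons, pow_succ] at this
        have e1 : ¬ (2 ^ k * 2) % 2 = 1 := by omega
        have e2 : 2 ^ k * 2 / 2 = 2 ^ k := by omega
        rwa [if_neg e1, e2, one_mul] at this
  exact aux l 11 (by rw [h.len]; exact key)

end Abs

theorem map_EJ : EJ.map rho = Q := by
  apply le_antisymm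
  · rw [Subgroup.map_le_iff_le_comap, EJ, Subgroup.closure_le]
    rintro _ ⟨g, rfl⟩
    change rho (Pres.phi g * s * (Pres.phi g)⁻¹) ∈ Q
    rw [map_mul, map_mul, map_inv, rho_s]
    have h1 : beta qs 1024 ∈ Q := beta_mem Q qs (fun a ha => Subgroup.subset_closure ha) _
    exact (Subgroup.mem_normalizer_iff.mp (psi_norm ⟨g, rfl⟩) _).mp h1
  · refine (Subgroup.closure_le _).mpr ?_
    refine mem_of_conj hyp _ ?_
    intro m
    refine ⟨Pres.phi m * s * (Pres.phi m)⁻¹, Subgroup.subset_closure ⟨m, rfl⟩, ?_⟩
    rw [map_mul, map_mul, map_inv, rho_s]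
    rfl

section Faithful

variable (inj : Function.Injective rho)

include inj

theorem mem_EJ_iff (e : Cfsg.Spor.J4) : e ∈ EJ ↔ rho e ∈ Q := by
  rw [← map_EJ]
  constructor
  · exact fun h => ⟨e, h, rfl⟩
  · rintro ⟨e', h, he⟩
    rwa [← inj he]

theorem card_EJ : Nat.card EJ = 2 ^ 11 := by
  have h1 : Nat.card EJ = Nat.card Q := by
    rw [← map_EJ]
    exact Nat.card_congr (EJ.equivMapOfInjective rho inj).toEquiv
  rw [h1]
  have h2 : ∀ q : Q, ∃ v : Fin 2048, (q : GL (Fin 112) (ZMod 2)) = beta qs v := by
    intro q
    obtain ⟨v, hv, h⟩ := exists_beta hyp.sq hyp.comm q.2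
    rw [qs_length] at hv
    exact ⟨⟨v, hv⟩, h⟩
  choose f hf using h2
  have hinj : Function.Injective f := fun a b h => Subtype.ext (by rw [hf, hf, h])
  have h3 := Nat.card_le_card_of_injective f hinj
  rw [Nat.card_eq_fintype_card (α := Fin 2048), Fintype.card_fin] at h3
  exact le_antisymm h3 (Nat.le_of_dvd Nat.card_pos Q_props.2)

theorem EJ_sq (e : Cfsg.Spor.J4) (he : e ∈ EJ) : e * e = 1 := by
  have h1 := (mem_EJ_iff inj e).mp he
  obtain ⟨v, -, h⟩ := exists_beta hyp.sq hyp.comm h1
  apply inj
  rw [map_mul, map_one, h]
  exact beta_sq qs hyp.sq hyp.comm v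

theorem EJ_comm (a b : Cfsg.Spor.J4) (ha : a ∈ EJ) (hb : b ∈ EJ) : a * b = b * a := by
  obtain ⟨v, -, h⟩ := exists_beta hyp.sq hyp.comm ((mem_EJ_iff inj a).mp ha)
  obtain ⟨w, -, h'⟩ := exists_beta hyp.sq hyp.comm ((mem_EJ_iff inj b).mp hb)
  apply inj
  rw [map_mul, map_mul, h, h']
  have e1 := beta_xor qs hyp.sq hyp.comm v w
  have e2 := beta_xor qs hyp.sq hyp.comm w v
  rw [Nat.xor_comm] at e2
  exact e1.symm.trans e2

/-- the nontrivial elements of `EJ` are conjugate under M24 to `s` or to `d` -/
theorem EJ_cases (e : Cfsg.Spor.J4) (he : e ∈ EJ) (he1 : e ≠ 1) :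
    ∃ m : M24, e = Pres.phi m * s * (Pres.phi m)⁻¹ ∨ e = Pres.phi m * d * (Pres.phi m)⁻¹ := by
  obtain ⟨v, hv, h⟩ := exists_beta hyp.sq hyp.comm ((mem_EJ_iff inj e).mp he)
  rw [qs_length] at hv
  have h0 : v ≠ 0 := by
    rintro rfl
    apply he1
    apply inj
    rw [h, map_one]
    exact beta_zero qs
  obtain ⟨m, hm⟩ := conj_beta_cases hyp v hv h0
  refine ⟨m, hm.imp (fun hm => ?_) fun hm => ?_⟩
  · apply inj
    rw [map_mul, map_mul, map_inv, rho_s, h]
    exact hm
  · apply inj
    rw [map_mul, map_mul, map_inv, rho_d, h]
    exact hm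

theorem d_mem : d ∈ EJ := by
  rw [mem_EJ_iff inj, rho_d]
  exact beta_mem Q qs (fun a ha => Subgroup.subset_closure ha) _

theorem s_mem : s ∈ EJ := by
  rw [mem_EJ_iff inj, rho_s]
  exact beta_mem Q qs (fun a ha => Subgroup.subset_closure ha) _

omit inj in
theorem not_isConj_s_d : ¬ IsConj s d := by
  intro h
  obtain ⟨g, hg⟩ := isConj_iff.mp h
  have h1 := congrArg rho hg
  rw [map_mul, map_mul, map_inv, rho_s, rho_d] at h1
  exact not_conj (rho g) h1

/-- Every involution of J4 is conjugate to `s` or to `d`. -/
theorem invol (h22 : ¬ 2 ^ 22 ∣ Nat.card rho.range) (u : Cfsg.Spor.J4) (hu : u * u = 1)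
    (hu1 : u ≠ 1) : IsConj u s ∨ IsConj u d := by
  have h1 : rho u * rho u = 1 := by rw [← map_mul, hu, map_one]
  have h2 : rho u ≠ 1 := by
    intro h
    exact hu1 (inj (h.trans (map_one rho).symm))
  obtain ⟨_, ⟨g, rfl⟩, h3⟩ := range_good h22 (rho u) ⟨u, rfl⟩ h1 h2
  rcases h3 with h3 | h3
  · left
    rw [isConj_iff]
    refine ⟨g, inj ?_⟩
    rw [map_mul, map_mul, map_inv, rho_s, h3]
  · right
    rw [isConj_iff]
    refine ⟨g, inj ?_⟩
    rw [map_mul, map_mul, map_inv, rho_d, h3]

end Faithful

end Cfsg.Agent.J4.Invol
end
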